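import Cfsg.Agent.H55.CO.Ts

/-!
# FRAME-TS, final (helper55, S3852)
-/

set_option autoImplicit false
set_option linter.unusedVariables false
set_option linter.unusedSectionVars false

namespace Cfsg.Agent.H55.CO

open QuadraticMap Cfsg.Agent.LieClassical.OrthCore Cfsg.Agent.LieClassical.OrthTrans
  Cfsg.Agent.LieClassical.OrthSimple Cfsg.Agent.ClassicalGeometry.OrthSemi
  Cfsg.Agent.ClassicalGeometry.OrthAut1 Cfsg.Agent.H989.OutOrth.Basic
open Subgroup Pointwise Cfsg.Agent.Solvable.Carter Cfsg.Agent.H18.Carter Cfsg.Agent.H381.Car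
  Cfsg.Agent.H502.Car Matrix TS
open Cfsg.Agent.H308.CA (Gd TA IsP PropFix Sml mt mkSU Ex)
open Cfsg.Agent.H683.CA (p1 p2 mk2 toSL mat_ext mk2_mul mk2_add)

universe u

theorem exists_pow_of_sum {b : ℕ} (hodd : Odd b) (hb : 3 ≤ b) (s : Finset ℕ) (h : 2 * b = ∑ a ∈ s, 2 ^ a) :
    ∃ a ∈ s, 1 ≤ a ∧ 2 ^ a < 2 * b := by
  have h0 : 0 ∉ s := by
    intro h0
    rw [← Finset.add_sum_erase s _ h0, pow_zero] at h
    have h1 : 2 ∣ ∑ a ∈ s.erase 0, 2 ^ a := by
      apply Finset.dvd_sum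
      intro a ha
      have h2 : a ≠ 0 := (Finset.mem_erase.1 ha).1
      exact dvd_pow_self 2 h2
    omega
  obtain ⟨a, ha⟩ : s.Nonempty := by
    rw [Finset.nonempty_iff_ne_empty]
    rintro rfl
    rw [Finset.sum_empty] at h
    omega
  have ha1 : 1 ≤ a := by
    rcases Nat.eq_zero_or_pos a with h1 | h1
    · rw [h1] at ha
      exact absurd ha h0
    · exact h1
  refine ⟨a, ha, ha1, ?_⟩
  have hle : 2 ^ a ≤ 2 * b := by
    rw [h]
    exact Finset.single_le_sum (f := fun a => 2 ^ a) (fun _ _ => Nat.zero_le _) ha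
  refine lt_of_le_of_ne hle fun heq => ?_
  obtain ⟨c, rfl⟩ : ∃ c, a = c + 1 := ⟨a - 1, by omega⟩
  have h2 : b = 2 ^ c := by
    rw [pow_succ] at heq
    omega
  rcases Nat.eq_zero_or_pos c with h3 | h3
  · rw [h3, pow_zero] at h2
    omega
  · rw [h2] at hodd
    have h4 : Even (2 ^ c) := (Nat.even_pow.2 ⟨even_two, by omega⟩)
    exact (Nat.not_even_iff_odd.2 hodd) h4

/-- **FRAME-TS** -/
theorem frameTs (hF : Fpf.{u}) : FrameTs.{u} := by
  intro F _ _ ι _ _ Q hG h2 G _ _ S _ ctx K hK e hs R hR hIv b hb hodd hb3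
  obtain ⟨bas⟩ : Nonempty (Module.Basis (Fin (2 * b)) F R) := ⟨(Module.finBasis F R).reindex (finCongr hb)⟩
  have hle : K ≤ St e R := fun k hk => by
    obtain ⟨M, hM⟩ := hs k
    exact ⟨M, hM, fun v => hIv.mem_iff hk hM⟩
  have hSml0 : Sml (St e R) := Cfsg.Agent.H308.CA.Sml.subgroup ctx.min _
  have hSml : Sml (Gq hG e R bas) := Cfsg.Agent.H308.CA.Sml.quot hSml0 _
  have hK1 : IsCarter (K.subgroupOf (St e R)) := hK.subgroupOf hle
  have hK2 : IsCarter ((K.subgroupOf (St e R)).map (QuotientGroup.mk' (pi' hG e R bas).ker)) :=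
    Cfsg.Agent.H308.CA.carter_map hSml0 (QuotientGroup.mk'_surjective _) hK1
  obtain ⟨p, hp⟩ := CharP.exists F
  have hpp : p.Prime := CharP.char_is_prime F p
  have hp2 : p ≠ 2 := by
    rintro rfl
    exact h2 (by exact_mod_cast CharP.cast_eq_zero F 2)
  have hpE : CharP (Ex F) p := by
    let i : F →+* Ex F :=
      { toFun := fun x => ((x, x) : F × F)
        map_one' := rfl
        map_zero' := rfl
        map_mul' := fun x y => rfl
        map_add' := fun x y => rfl }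
    exact charP_of_injective_ringHom (f := i) (fun x y h => congrArg Prod.fst h) p
  have hGd : Gd (Ex F) := Cfsg.Agent.H308.CA.Good.lin F inferInstance inferInstance
  obtain ⟨s, ee, sys⟩ := Cfsg.Agent.H308.CA.claim2 hF hpp hp2 (2 * b) (Gq hG e R bas) (Fin (2 * b)) (Ex F) hGd
    (tq hG e hR bas) hSml _ hK2 (Fintype.card_fin _)
  have hcard := Cfsg.Agent.H55.CA.card_eq_sum hGd s ee sys.isP sys.orth sys.sum sys.rk
  rw [Fintype.card_fin] at hcard
  obtain ⟨a, ha, ha1, ha2⟩ := exists_pow_of_sum hodd hb3 s hcard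
  obtain ⟨e1, he1⟩ : ∃ e1, e1 = p1 (ee a) := ⟨_, rfl⟩
  have hidem : e1 * e1 = e1 := by rw [he1, ← map_mul, (sys.isP a ha).idem]
  have hee : ee a = H55.CA.pr e1 e1ᵀ := by
    have h3 : p2 (ee a) = (p1 (ee a))ᵀ := by
      conv_lhs => rw [← (sys.isP a ha).sym]
      rfl
    rw [he1, ← h3]
    rfl
  have hrk : e1.rank = 2 ^ a := by
    rw [← Cfsg.Agent.H55.CA.rk_pr hidem, ← hee, sys.rk a ha]
  obtain ⟨T, hT⟩ : ∃ T : Module.End F R, T = (LinearMap.toMatrixAlgEquiv bas).toRingEquiv.symm e1 := ⟨_, rfl⟩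
  have hT' : T = Matrix.toLin bas bas e1 := hT
  have hfin : Module.finrank F ((LinearMap.range T).map R.subtype) = 2 ^ a := by
    rw [← hrk, Matrix.rank_eq_finrank_range_toLin e1 bas bas, ← hT']
    exact (Submodule.equivMapOfInjective R.subtype R.injective_subtype (LinearMap.range T)).finrank_eq.symm
  refine ⟨(LinearMap.range T).map R.subtype, Submodule.map_subtype_le R _, ?_, ?_, ?_, ?_⟩
  · intro h
    rw [h, finrank_bot] at hfin
    exact absurd hfin (by positivity)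
  · intro h
    rw [h, hb] at hfin
    omega
  · rw [hfin]
    exact Nat.even_pow.2 ⟨even_two, by omega⟩
  · intro k hk M hM v hv
    obtain ⟨_, ⟨r, rfl⟩, rfl⟩ := hv
    have hpr : PR R M := fun v => hIv.mem_iff hk hM
    have hfix := sys.fix a ha (((⟨k, hle hk⟩ : St e R) : Gq hG e R bas)) ⟨⟨k, hle hk⟩, mem_subgroupOf.2 hk, rfl⟩
    change ka hG e R bas _ (ee a) = ee a at hfix
    rw [ka_mk, pi'_apply, aR_spec hG ⟨k, hle hk⟩ hM hpr] at hfix
    have h3 := congrArg p1 hfix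
    change rcongr (LinearMap.toMatrixAlgEquiv bas).toRingEquiv (cR hpr) (p1 (ee a)) = p1 (ee a) at h3
    rw [rcongr_apply, ← he1, ← hT] at h3
    have h4 : cR hpr T = T := by
      rw [hT]
      apply (LinearMap.toMatrixAlgEquiv bas).toRingEquiv.injective
      rw [RingEquiv.apply_symm_apply, ← hT]
      exact h3
    refine ⟨T (mR hpr r), ⟨mR hpr r, rfl⟩, ?_⟩
    have h5 := LinearMap.congr_fun h4 (mR hpr r)
    rw [cR_apply, AddEquiv.symm_apply_apply] at h5
    rw [← h5]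
    rfl

end Cfsg.Agent.H55.CO
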