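import Cfsg.Agent.H55.CA.TwoLin
import Cfsg.Agent.H683.CA.ExMat
import Cfsg.Agent.H502.Car.Stmts
import Cfsg.Agent.H308.CA.Step

/-!
# The stabilizer of a totally singular subspace acts on `Matrix (Fin n) (Fin n) (F × F)` (helper55, S3852, FRAME-TS)
-/

set_option autoImplicit false
set_option linter.unusedVariables false
set_option linter.unusedSectionVars false

namespace Cfsg.Agent.H55.CO.TS

open QuadraticMap Cfsg.Agent.LieClassical.OrthCore Cfsg.Agent.LieClassical.OrthTrans
  Cfsg.Agent.LieClassical.OrthSimple Cfsg.Agent.ClassicalGeometry.OrthSemi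
  Cfsg.Agent.ClassicalGeometry.OrthAut1 Cfsg.Agent.H989.OutOrth.Basic
open Subgroup Pointwise Cfsg.Agent.Solvable.Carter Cfsg.Agent.H18.Carter Cfsg.Agent.H381.Car
  Cfsg.Agent.H502.Car Matrix
open Cfsg.Agent.H308.CA (Gd TA IsP PropFix Sml mt mkSU Ex)
open Cfsg.Agent.H683.CA (p1 p2 mk2 toSL mat_ext mk2_mul mk2_add)

universe u

section ext

variable {ι : Type} [Fintype ι] [DecidableEq ι] {F : Type} [Field F]

theorem mk2_eta (X : Matrix ι ι (Ex F)) : mk2 (p1 X) (p2 X) = X := rfl

/-- the extension of a ring automorphism of `M_n(F)` to `M_n(F × F)` -/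
def ext : RingAut (Matrix ι ι F) →* RingAut (Matrix ι ι (Ex F)) where
  toFun α :=
    { toFun := fun X => mk2 (α (p1 X)) ((α ((p2 X)ᵀ))ᵀ)
      invFun := fun X => mk2 (α.symm (p1 X)) ((α.symm ((p2 X)ᵀ))ᵀ)
      left_inv := fun X => by
        apply mat_ext
        · change α.symm (α (p1 X)) = p1 X
          rw [RingEquiv.symm_apply_apply]
        · change (α.symm (((α ((p2 X)ᵀ))ᵀ)ᵀ))ᵀ = p2 X
          rw [transpose_transpose, RingEquiv.symm_apply_apply, transpose_transpose]
      right_inv := fun X => by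
        apply mat_ext
        · change α (α.symm (p1 X)) = p1 X
          rw [RingEquiv.apply_symm_apply]
        · change (α (((α.symm ((p2 X)ᵀ))ᵀ)ᵀ))ᵀ = p2 X
          rw [transpose_transpose, RingEquiv.apply_symm_apply, transpose_transpose]
      map_mul' := fun X Y => by
        rw [map_mul p1, map_mul α, map_mul p2, transpose_mul, mk2_mul, map_mul α, transpose_mul]
      map_add' := fun X Y => by
        rw [map_add p1, map_add α, map_add p2, transpose_add, mk2_add, map_add α, transpose_add] }
  map_one' := by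
    ext X : 1
    apply mat_ext
    · rfl
    · change ((p2 X)ᵀ)ᵀ = p2 X
      rw [transpose_transpose]
  map_mul' α β := by
    ext X : 1
    apply mat_ext
    · rfl
    · change (α (β ((p2 X)ᵀ)))ᵀ = (α (((β ((p2 X)ᵀ))ᵀ)ᵀ))ᵀ
      rw [transpose_transpose]

theorem ext_apply (α : RingAut (Matrix ι ι F)) (X : Matrix ι ι (Ex F)) :
    ext α X = mk2 (α (p1 X)) ((α ((p2 X)ᵀ))ᵀ) := rfl

theorem ext_star (α : RingAut (Matrix ι ι F)) (X : Matrix ι ι (Ex F)) : ext α (star X) = star (ext α X) := by
  rw [ext_apply, ext_apply, H683.CA.star_mk2, H683.CA.p1_star, H683.CA.p2_star, transpose_transpose,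
    transpose_transpose]

/-- transport of ring automorphisms -/
def rcongr {A B : Type*} [Ring A] [Ring B] (f : A ≃+* B) : RingAut A →* RingAut B where
  toFun α := (f.symm.trans α).trans f
  map_one' := by
    ext x
    exact f.apply_symm_apply x
  map_mul' α β := by
    ext x
    change f (α (β (f.symm x))) = f (α (f.symm (f (β (f.symm x)))))
    rw [RingEquiv.symm_apply_apply]

theorem rcongr_apply {A B : Type*} [Ring A] [Ring B] (f : A ≃+* B) (α : RingAut A) (x : B) :
    rcongr f α x = f (α (f.symm x)) := rfl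

end ext

section res

variable {F V : Type*} [Field F] [AddCommGroup V] [Module F V] {Q : QuadraticForm F V} {R : Submodule F V}

/-- `M` preserves `R` -/
def PR (R : Submodule F V) (M : Gam Q) : Prop := ∀ v, M.1 v ∈ R ↔ v ∈ R

theorem PR.one : PR R (1 : Gam Q) := fun _ => Iff.rfl

theorem PR.mul {M N : Gam Q} (hM : PR R M) (hN : PR R N) : PR R (M * N) := fun v => (hM (N.1 v)).trans (hN v)

theorem PR.inv {M : Gam Q} (hM : PR R M) : PR R M⁻¹ := fun v => by
  have h := hM (M.1⁻¹ v)
  rw [apply_inv] at h
  exact h.symm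

theorem PR.scal (a : Fˣ) : PR R (Cfsg.Agent.ClassicalGeometry.OrthSemi.scal Q a) := fun v => by
  rw [scal_apply]
  refine ⟨fun h => ?_, fun h => R.smul_mem _ h⟩
  have h1 := R.smul_mem ((a⁻¹ : Fˣ) : F) h
  rwa [smul_smul, Units.inv_mul, one_smul] at h1

/-- the restriction of a semisimilitude -/
def mR {M : Gam Q} (h : PR R M) : R ≃+ R where
  toFun r := ⟨M.1 r, (h r).2 r.2⟩
  invFun r := ⟨M.1⁻¹ r, (h.inv r).2 r.2⟩
  left_inv r := Subtype.ext (inv_apply M.1 r)
  right_inv r := Subtype.ext (apply_inv M.1 r)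
  map_add' r s := Subtype.ext (add_of_mem M.2 r s)

theorem coe_mR {M : Gam Q} (h : PR R M) (r : R) : (mR h r : V) = M.1 r := rfl

theorem coe_mR_symm {M : Gam Q} (h : PR R M) (r : R) : ((mR h).symm r : V) = M.1⁻¹ r := rfl

/-- conjugation by a semisimilitude on `End R` -/
def cR {M : Gam Q} (h : PR R M) : RingAut (Module.End F R) where
  toFun T :=
    { toFun := fun r => mR h (T ((mR h).symm r))
      map_add' := fun r s => by rw [map_add, map_add, map_add]
      map_smul' := fun a r => by
        obtain ⟨σ, c, hM⟩ := M.2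
        have h1 : (mR h).symm (a • r) = σ.symm a • (mR h).symm r := Subtype.ext (hM.inv.smul a r)
        rw [h1, map_smul]
        apply Subtype.ext
        rw [coe_mR, Submodule.coe_smul, hM.smul, RingEquiv.apply_symm_apply]
        rfl }
  invFun T :=
    { toFun := fun r => (mR h).symm (T (mR h r))
      map_add' := fun r s => by rw [map_add, map_add, map_add]
      map_smul' := fun a r => by
        obtain ⟨σ, c, hM⟩ := M.2
        have h1 : mR h (a • r) = σ a • mR h r := Subtype.ext (hM.smul a r)
        rw [h1, map_smul]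
        apply Subtype.ext
        rw [coe_mR_symm, Submodule.coe_smul, hM.inv.smul, RingEquiv.symm_apply_apply]
        rfl }
  left_inv T := by
    ext r : 1
    change (mR h).symm (mR h (T ((mR h).symm (mR h r)))) = T r
    rw [AddEquiv.symm_apply_apply, AddEquiv.symm_apply_apply]
  right_inv T := by
    ext r : 1
    change mR h ((mR h).symm (T (mR h ((mR h).symm r)))) = T r
    rw [AddEquiv.apply_symm_apply, AddEquiv.apply_symm_apply]
  map_mul' S T := by
    ext r : 1
    change mR h (S (T ((mR h).symm r))) = mR h (S ((mR h).symm (mR h (T ((mR h).symm r)))))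
    rw [AddEquiv.symm_apply_apply]
  map_add' S T := by
    ext r : 1
    exact map_add (mR h) _ _

theorem cR_apply {M : Gam Q} (h : PR R M) (T : Module.End F R) (r : R) : cR h T r = mR h (T ((mR h).symm r)) := rfl

theorem cR_mul {M N : Gam Q} (h : PR R M) (h' : PR R N) : cR (h.mul h') = cR h * cR h' := by
  ext T r
  rfl

theorem cR_scal {M : Gam Q} (h : PR R M) (a : Fˣ) (h' : PR R (M * Cfsg.Agent.ClassicalGeometry.OrthSemi.scal Q a)) : cR h' = cR h := by
  have h1 : cR h' = cR h * cR (PR.scal (Q := Q) (R := R) a) := by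
    ext T r
    rfl
  rw [h1]
  ext T r : 2
  change cR h (cR (PR.scal (Q := Q) (R := R) a) T) r = cR h T r
  have h2 : cR (PR.scal (Q := Q) (R := R) a) T = T := by
    ext r
    rw [cR_apply, coe_mR, scal_apply]
    have h3 : (a : F) • (mR (PR.scal (Q := Q) (R := R) a)).symm r = r := by
      apply Subtype.ext
      have h4 := congrArg Subtype.val ((mR (PR.scal (Q := Q) (R := R) a)).apply_symm_apply r)
      rw [coe_mR, scal_apply] at h4
      exact h4
    rw [← Submodule.coe_smul, ← map_smul, h3]
  rw [h2]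

end res

end Cfsg.Agent.H55.CO.TS
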